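import Mathlib
import Groth.Prelude.Def_FEt

/-!
# The absolute Galois group acts on the geometric fibres of finite étale `K`-schemes
(interface for the S0290 / S0298 squad, helper68)
-/

set_option autoImplicit false
universe u
open CategoryTheory CategoryTheory.Limits AlgebraicGeometry

namespace Groth.Agent.H68.GalK

variable (K : Type u) [Field K]

/-- the geometric point `Spec K̄ ⟶ Spec K` -/
noncomputable abbrev ξ : Spec (CommRingCat.of (AlgebraicClosure K)) ⟶ Spec (CommRingCat.of K) :=
  Spec.map (CommRingCat.ofHom (algebraMap K (AlgebraicClosure K)))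

variable {K}

/-- an element of the absolute Galois group as a `K`-algebra automorphism of `K̄` (`id`) -/
def ae (σ : Field.absoluteGaloisGroup K) : AlgebraicClosure K ≃ₐ[K] AlgebraicClosure K := σ

theorem ae_one : ae (1 : Field.absoluteGaloisGroup K) = 1 := rfl

theorem ae_mul (σ τ : Field.absoluteGaloisGroup K) : ae (σ * τ) = ae σ * ae τ := rfl

theorem ae_injective : Function.Injective (ae (K := K)) := fun _ _ h => h

/-- the automorphism of `Spec K̄` induced by `σ` -/
noncomputable abbrev specσ (σ : Field.absoluteGaloisGroup K) :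
    Spec (CommRingCat.of (AlgebraicClosure K)) ⟶ Spec (CommRingCat.of (AlgebraicClosure K)) :=
  Spec.map (CommRingCat.ofHom ((ae σ : AlgebraicClosure K ≃ₐ[K] AlgebraicClosure K) :
    AlgebraicClosure K →+* AlgebraicClosure K))

theorem specσ_ξ (σ : Field.absoluteGaloisGroup K) : specσ σ ≫ ξ K = ξ K := by
  rw [← Spec.map_comp, ← CommRingCat.ofHom_comp]
  congr 2
  ext x
  exact (ae σ).commutes x

theorem specσ_one : specσ (1 : Field.absoluteGaloisGroup K) = 𝟙 _ := by
  show Spec.map (CommRingCat.ofHom (RingHom.id _)) = 𝟙 _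
  exact Spec.map_id _

theorem specσ_mul (σ τ : Field.absoluteGaloisGroup K) : specσ (σ * τ) = specσ σ ≫ specσ τ := by
  rw [← Spec.map_comp, ← CommRingCat.ofHom_comp]
  rfl

/-- the action of the absolute Galois group on the geometric fibre: `σ • s = Spec σ ≫ s`. -/
noncomputable instance (Y : FEt.Cat (Spec (CommRingCat.of K))) :
    MulAction (Field.absoluteGaloisGroup K) (FEt.fiberObj (ξ K) Y) where
  smul σ s := ⟨specσ σ ≫ s.1, by rw [Category.assoc, s.2, specσ_ξ]⟩
  one_smul s := Subtype.ext (by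
    show specσ (1 : Field.absoluteGaloisGroup K) ≫ s.1 = s.1
    rw [specσ_one, Category.id_comp])
  mul_smul σ τ s := Subtype.ext (by
    show specσ (σ * τ) ≫ s.1 = specσ σ ≫ specσ τ ≫ s.1
    rw [specσ_mul σ τ, Category.assoc])

theorem smul_val (Y : FEt.Cat (Spec (CommRingCat.of K))) (σ : Field.absoluteGaloisGroup K)
    (s : FEt.fiberObj (ξ K) Y) : (σ • s).1 = specσ σ ≫ s.1 := rfl

/-- the map on fibres induced by a morphism of covers (`= (FEt.fiber (ξ K)).map φ`, by `rfl`). -/
noncomputable def fiberMap {Y Y' : FEt.Cat (Spec (CommRingCat.of K))} (φ : Y ⟶ Y')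
    (s : FEt.fiberObj (ξ K) Y) : FEt.fiberObj (ξ K) Y' :=
  ⟨s.1 ≫ φ.left, by rw [Category.assoc]; exact (congrArg (s.1 ≫ ·) (Over.w φ.hom)).trans s.2⟩

theorem fiber_map_eq {Y Y' : FEt.Cat (Spec (CommRingCat.of K))} (φ : Y ⟶ Y')
    (s : FEt.fiberObj (ξ K) Y) : (FEt.fiber (ξ K)).map φ s = fiberMap φ s := rfl

/-- naturality of the action -/
theorem fiberMap_smul {Y Y' : FEt.Cat (Spec (CommRingCat.of K))} (φ : Y ⟶ Y')
    (σ : Field.absoluteGaloisGroup K) (s : FEt.fiberObj (ξ K) Y) :
    fiberMap φ (σ • s) = σ • fiberMap φ s :=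
  Subtype.ext (Category.assoc _ _ _)

end Groth.Agent.H68.GalK
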