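import Mathlib
import Groth.Prelude.Def_FEt
import Groth.Agent.H68.GalK.Defs

/-!
# (NTb): a separable element of `K̄` is detected by a geometric point of a finite étale `K`-scheme
-/

set_option autoImplicit false
universe u
open CategoryTheory CategoryTheory.Limits AlgebraicGeometry
open Groth.Agent.H68.GalK
open scoped IntermediateField

namespace Groth.Agent.H68.GalK.NTb
variable {K : Type u} [Field K]

theorem exists_fiber_point_of_isSeparable (a : AlgebraicClosure K) (ha : IsSeparable K a) :
    ∃ (Y : FEt.Cat (Spec (CommRingCat.of K))) (s : FEt.fiberObj (ξ K) Y),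
      ∀ σ : Field.absoluteGaloisGroup K, σ • s = s → ae σ a = a := by
  let E : IntermediateField K (AlgebraicClosure K) := K⟮a⟯
  haveI : FiniteDimensional K E :=
    IntermediateField.adjoin.finiteDimensional (Algebra.IsIntegral.isIntegral a)
  haveI : Algebra.IsSeparable K E :=
    (IntermediateField.isSeparable_adjoin_simple_iff_isSeparable K (AlgebraicClosure K)).mpr ha
  haveI : Algebra.FormallyEtale K E := Algebra.FormallyEtale.of_isSeparable K E
  haveI : Algebra.FinitePresentation K E := Algebra.FinitePresentation.of_finiteType.mp inferInstance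
  haveI : Algebra.Etale K E := {}
  let φ : CommRingCat.of K ⟶ CommRingCat.of E := CommRingCat.ofHom (algebraMap K E)
  have hfin : IsFinite (Spec.map φ) :=
    (IsFinite.SpecMap_iff φ).mpr (RingHom.finite_algebraMap.mpr inferInstance)
  have het : Etale (Spec.map φ) :=
    (HasRingHomProperty.Spec_iff (P := @Etale)).mpr (RingHom.etale_algebraMap.mpr inferInstance)
  let Y : FEt.Cat (Spec (CommRingCat.of K)) :=
    MorphismProperty.Over.mk ⊤ (Spec.map φ) ⟨hfin, het⟩
  let ψ : CommRingCat.of E ⟶ CommRingCat.of (AlgebraicClosure K) :=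
    CommRingCat.ofHom (algebraMap E (AlgebraicClosure K))
  refine ⟨Y, ⟨Spec.map ψ, ?_⟩, ?_⟩
  · show Spec.map ψ ≫ Spec.map φ = ξ K
    rw [← Spec.map_comp]
    rfl
  · intro σ hσ
    have h1 : specσ σ ≫ Spec.map ψ = Spec.map ψ := congrArg Subtype.val hσ
    rw [← Spec.map_comp] at h1
    have h2 := Spec.map_injective h1
    have h3 := congrArg (fun f => f.hom ⟨a, IntermediateField.mem_adjoin_simple_self K a⟩) h2
    exact h3

end Groth.Agent.H68.GalK.NTb
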