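import Mathlib

/-!
# Recognising the fundamental group of a Galois category through a `Type`-valued model of the
fibre functor (helper68)
-/

set_option autoImplicit false
universe u
open CategoryTheory CategoryTheory.Limits PreGaloisCategory

namespace Groth.Agent.H68.GalK

section
variable {C : Type (u + 1)} [Category.{u} C] (F : C ⥤ FintypeCat.{u}) (F' : C ⥤ Type u)
  (e : F ⋙ FintypeCat.incl ≅ F')

/-- the comparison bijection on fibres -/
noncomputable def eqv (X : C) : (F.obj X) ≃ F'.obj X := (e.app X).toEquiv

theorem eqv_map {X Y : C} (f : X ⟶ Y) (a : F.obj X) :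
    eqv F F' e Y (F.map f a) = F'.map f (eqv F F' e X a) :=
  ConcreteCategory.congr_hom (e.hom.naturality f) a

theorem eqv_symm_map {X Y : C} (f : X ⟶ Y) (b : F'.obj X) :
    (eqv F F' e Y).symm (F'.map f b) = F.map f ((eqv F F' e X).symm b) := by
  apply (eqv F F' e Y).injective
  rw [Equiv.apply_symm_apply, eqv_map, Equiv.apply_symm_apply]

end

theorem nonempty_continuousMulEquiv_aut {C : Type (u + 1)} [Category.{u} C] [GaloisCategory C]
    (F : C ⥤ FintypeCat.{u}) [FiberFunctor F] (F' : C ⥤ Type u)
    (e : F ⋙ FintypeCat.incl ≅ F')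
    (G : Type u) [Group G] [TopologicalSpace G] [IsTopologicalGroup G] [CompactSpace G]
    [∀ X : C, MulAction G (F'.obj X)]
    (hnat : ∀ (g : G) {X Y : C} (f : X ⟶ Y) (x : F'.obj X), F'.map f (g • x) = g • F'.map f x)
    (htrans : ∀ (X : C) [IsGalois X] (x y : F'.obj X), ∃ g : G, g • x = y)
    (hcont : ∀ (X : C) [TopologicalSpace (F'.obj X)] [DiscreteTopology (F'.obj X)],
      ContinuousSMul G (F'.obj X))
    (hnt : ∀ g : G, (∀ (X : C) (x : F'.obj X), g • x = x) → g = 1) :
    Nonempty (G ≃ₜ* Aut F) := by
  letI act : ∀ X : C, MulAction G (F.obj X) := fun X => (eqv F F' e X).mulAction G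
  have hsmul : ∀ (X : C) (g : G) (a : F.obj X),
      g • a = (eqv F F' e X).symm (g • eqv F F' e X a) := fun X g a => rfl
  haveI : IsFundamentalGroup F G :=
    { naturality := fun g {X Y} f x => by
        rw [hsmul, hsmul, eqv_map, ← eqv_symm_map, hnat]
      transitive_of_isGalois := fun X _ => ⟨fun x y => by
        obtain ⟨g, hg⟩ := htrans X (eqv F F' e X x) (eqv F F' e X y)
        exact ⟨g, by rw [hsmul, hg, Equiv.symm_apply_apply]⟩⟩
      continuous_smul := fun X => by
        letI : TopologicalSpace (F'.obj X) := ⊥
        haveI : DiscreteTopology (F'.obj X) := ⟨rfl⟩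
        haveI := hcont X
        refine ⟨?_⟩
        have h1 : Continuous fun p : G × (F.obj X) => (p.1, eqv F F' e X p.2) :=
          continuous_fst.prodMk (continuous_of_discreteTopology.comp continuous_snd)
        have h2 : Continuous fun p : G × F'.obj X => p.1 • p.2 := continuous_smul
        have h3 : Continuous (eqv F F' e X).symm := continuous_of_discreteTopology
        exact h3.comp (h2.comp h1)
      non_trivial' := fun g hg => hnt g fun X x => by
        have := hg X ((eqv F F' e X).symm x)
        rw [hsmul, Equiv.apply_symm_apply] at this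
        exact (eqv F F' e X).symm.injective this }
  exact ⟨{ toMulEquiv := toAutMulEquiv F G
           continuous_toFun := (toAutMulEquiv_isHomeomorph F G).continuous
           continuous_invFun := (toAutMulEquiv_isHomeomorph F G).homeomorph.symm.continuous }⟩

end Groth.Agent.H68.GalK
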