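import Mathlib
import Groth.Prelude.Def_FEt
import Groth.Agent.H68.GalK.Defs
import Groth.Agent.H68.GalK.Recog
import Groth.Agent.H48.GalK_TRa
import Groth.Agent.H54.GalK_TRb
import Groth.Agent.H68.GalK.NTb
import Groth.Agent.H97.GalK_CS
import Groth.Agent.H64.GalK_CPT
import Groth.Agent.H91.GalK_CONT
import Groth.Agent.H69.FEtColim.Galois

/-!
# Grothendieck's Galois theory for fields: `FEt(Spec K) ≌ finite continuous Gal(K̄/K)-sets`
and `π₁(Spec K, K̄) ≃* Gal(K̄/K)` (helper68; assembly)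
-/

set_option autoImplicit false
universe u
open CategoryTheory CategoryTheory.Limits AlgebraicGeometry PreGaloisCategory FintypeCatDiscrete

namespace Groth.Agent.H68.GalK

open Groth.Agent.H48.GalK_TRa Groth.Agent.H54.GalK_TRb Groth.Agent.H68.GalK.NTb Groth.Agent.H97.GalK_CS Groth.Agent.H64.GalK_CPT Groth.Agent.H91.GalK_CONT

variable (K : Type u) [Field K]

theorem exists_data :
    ∃ (_ : GaloisCategory (FEt.Cat (Spec (CommRingCat.of K))))
      (F : FEt.Cat (Spec (CommRingCat.of K)) ⥤ FintypeCat.{u}) (_ : FiberFunctor F),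
      Nonempty (F ⋙ FintypeCat.incl ≅ FEt.fiber (ξ K)) ∧
        Nonempty (Field.absoluteGaloisGroup K ≃ₜ* Aut F) := by
  obtain ⟨hPG, F, hF, ⟨e⟩⟩ := Groth.Agent.H69.FEtColim.galois_fet (ξ K)
  letI := hPG
  haveI hGC : GaloisCategory (FEt.Cat (Spec (CommRingCat.of K))) :=
    { toPreGaloisCategory := hPG, hasFiberFunctor := ⟨F, ⟨hF⟩⟩ }
  haveI := hF
  refine ⟨hGC, F, hF, ⟨e⟩, ?_⟩
  haveI := compactSpace_absoluteGaloisGroup K
  letI act : ∀ X : FEt.Cat (Spec (CommRingCat.of K)),
      MulAction (Field.absoluteGaloisGroup K) ((FEt.fiber (ξ K)).obj X) :=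
    fun X => (show MulAction (Field.absoluteGaloisGroup K) (FEt.fiberObj (ξ K) X) from
      inferInstance)
  refine nonempty_continuousMulEquiv_aut F (FEt.fiber (ξ K)) e (Field.absoluteGaloisGroup K)
    ?_ ?_ ?_ ?_
  · intro g X Y f x
    exact fiberMap_smul f g x
  · intro X _ x y
    have hconn : ∀ (Y' : FEt.Cat (Spec (CommRingCat.of K))) (i : Y' ⟶ X), Mono i →
        (IsInitial Y' → False) → IsIso i := fun Y' i hi h =>
      IsConnected.noTrivialComponent Y' i h
    exact exists_smul_eq_of_base_eq X x y fun p => base_eq_of_noTrivialComponent X hconn x y p p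
  · intro X _ _
    exact continuousSMul_of_isOpen_stabilizer fun x => isOpen_stabilizer X x
  · intro g hg
    apply ae_injective
    rw [ae_one]
    apply eq_one_of_forall_isSeparable
    intro a ha
    obtain ⟨Y, s, hs⟩ := exists_fiber_point_of_isSeparable a ha
    exact hs g (hg Y s)

/-- S0290 -/
theorem main_equivalence :
    Nonempty (FEt.Cat (Spec (CommRingCat.of K)) ≌
      ContAction FintypeCat.{u} (Field.absoluteGaloisGroup K)) := by
  obtain ⟨hGC, F, hF, -, ⟨f⟩⟩ := exists_data K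
  exact ⟨(functorToContAction F).asEquivalence.trans (ContAction.resEquiv FintypeCat f)⟩

/-- S0298 -/
theorem main_piOne :
    Nonempty (Field.absoluteGaloisGroup K ≃*
      FEt.piOne (Spec (CommRingCat.of K))
        (Spec.map (CommRingCat.ofHom (algebraMap K (AlgebraicClosure K))))) := by
  obtain ⟨hGC, F, hF, ⟨e⟩, ⟨f⟩⟩ := exists_data K
  obtain ⟨g⟩ := nonempty_aut_mulEquiv F (FEt.fiber (ξ K)) e
  exact ⟨f.toMulEquiv.trans g⟩

end Groth.Agent.H68.GalK
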